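import Mathlib.Algebra.Homology.DerivedCategory.TStructure
import Mathlib.Algebra.Homology.DerivedCategory.SingleTriangle
import Mathlib.Algebra.Homology.DerivedCategory.HomologySequence
import Mathlib.CategoryTheory.Triangulated.TStructure.TruncLTGE
import Mathlib

/-!
Bounded objects with vanishing higher Ext between cohomology objects split.
-/

set_option autoImplicit false
set_option backward.isDefEq.respectTransparency false
set_option backward.isDefEq.respectTransparency.types false
set_option linter.style.haveILetI false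

universe w v u

open CategoryTheory Limits DerivedCategory Pretriangulated

namespace Groth.Agent.DerSplit

variable {A : Type u} [Category.{v} A] [Abelian A] [HasDerivedCategory.{w} A]


lemma isGE_truncGE (K : DerivedCategory A) (n : ℤ) : DerivedCategory.IsGE (((DerivedCategory.TStructure.t (C := A)).truncGE n).obj K) n :=
  inferInstanceAs ((DerivedCategory.TStructure.t (C := A)).IsGE (((DerivedCategory.TStructure.t (C := A)).truncGE n).obj K) n)

lemma isLE_truncLT (K : DerivedCategory A) (n : ℤ) : DerivedCategory.IsLE (((DerivedCategory.TStructure.t (C := A)).truncLT n).obj K) (n - 1) :=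
  inferInstanceAs ((DerivedCategory.TStructure.t (C := A)).IsLE (((DerivedCategory.TStructure.t (C := A)).truncLT n).obj K) (n - 1))

lemma isIso_HD_ι (K : DerivedCategory A) (n i : ℤ) (hi : i < n) : IsIso ((DerivedCategory.homologyFunctor A i).map (((DerivedCategory.TStructure.t (C := A)).truncLTι n).app K)) := by
  have hT := (DerivedCategory.TStructure.t (C := A)).triangleLTGE_distinguished n K
  haveI := isGE_truncGE K n
  haveI : Epi ((DerivedCategory.homologyFunctor A i).map (((DerivedCategory.TStructure.t (C := A)).truncLTι n).app K)) :=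
    (HomologySequence.epi_homologyMap_mor₁_iff _ hT i).2 ((DerivedCategory.isZero_of_isGE _ n i hi).eq_of_tgt _ _)
  haveI : Mono ((DerivedCategory.homologyFunctor A i).map (((DerivedCategory.TStructure.t (C := A)).truncLTι n).app K)) :=
    (HomologySequence.mono_homologyMap_mor₁_iff _ hT (i - 1) i (by lia)).2
      ((DerivedCategory.isZero_of_isGE (((DerivedCategory.TStructure.t (C := A)).truncGE n).obj K) n (i - 1) (by lia)).eq_of_src _ _)
  exact isIso_of_mono_of_epi _

lemma isIso_HD_π (K : DerivedCategory A) (n i : ℤ) (hi : n ≤ i) : IsIso ((DerivedCategory.homologyFunctor A i).map (((DerivedCategory.TStructure.t (C := A)).truncGEπ n).app K)) := by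
  have hT := (DerivedCategory.TStructure.t (C := A)).triangleLTGE_distinguished n K
  haveI := isLE_truncLT K n
  haveI : Mono ((DerivedCategory.homologyFunctor A i).map (((DerivedCategory.TStructure.t (C := A)).truncGEπ n).app K)) :=
    (HomologySequence.mono_homologyMap_mor₂_iff _ hT i).2
      ((DerivedCategory.isZero_of_isLE (((DerivedCategory.TStructure.t (C := A)).truncLT n).obj K) (n - 1) i (by lia)).eq_of_src _ _)
  haveI : Epi ((DerivedCategory.homologyFunctor A i).map (((DerivedCategory.TStructure.t (C := A)).truncGEπ n).app K)) :=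
    (HomologySequence.epi_homologyMap_mor₂_iff _ hT i (i + 1) rfl).2
      ((DerivedCategory.isZero_of_isLE (((DerivedCategory.TStructure.t (C := A)).truncLT n).obj K) (n - 1) (i + 1) (by lia)).eq_of_tgt _ _)
  exact isIso_of_mono_of_epi _

/-- the cohomology of `single n` -/
noncomputable def singleHD (n : ℤ) (Y : A) : (DerivedCategory.homologyFunctor A n).obj ((DerivedCategory.singleFunctor A n).obj Y) ≅ Y :=
  (DerivedCategory.homologyFunctor A n).mapIso (((DerivedCategory.singleFunctorIsoCompQ A n).app Y)) ≪≫ (homologyFunctorFactors A n).app _ ≪≫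
    HomologicalComplex.singleObjHomologySelfIso (ComplexShape.up ℤ) n Y

/-- concentrated objects -/
lemma nonempty_iso_single (X : DerivedCategory A) (n : ℤ) [X.IsGE n] [X.IsLE n] :
    Nonempty (X ≅ (DerivedCategory.singleFunctor A n).obj ((DerivedCategory.homologyFunctor A n).obj X)) := by
  obtain ⟨Y, ⟨e⟩⟩ := exists_iso_singleFunctor_obj_of_isGE_of_isLE X n
  exact ⟨e ≪≫ (DerivedCategory.singleFunctor A n).mapIso ((DerivedCategory.homologyFunctor A n).mapIso e ≪≫ singleHD n Y).symm⟩

variable (K : DerivedCategory A)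
  (hExt : ∀ (i j : ℤ) (p : ℕ), j < i → 2 ≤ p → ∀ f : (DerivedCategory.singleFunctor A 0).obj ((DerivedCategory.homologyFunctor A i).obj K) ⟶ ((DerivedCategory.singleFunctor A 0).obj ((DerivedCategory.homologyFunctor A j).obj K))⟦(p : ℤ)⟧, f = 0)

include hExt in
lemma single_hom_eq_zero (i c : ℤ) (hci : c < i)
    (f : (DerivedCategory.singleFunctor A i).obj ((DerivedCategory.homologyFunctor A i).obj K) ⟶ ((DerivedCategory.singleFunctor A c).obj ((DerivedCategory.homologyFunctor A c).obj K))⟦(1 : ℤ)⟧) : f = 0 := by
  obtain ⟨p, hp⟩ : ∃ p : ℕ, (p : ℤ) = i - c + 1 := ⟨(i - c + 1).toNat, by omega⟩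
  let S := DerivedCategory.singleFunctors A
  let e₁ : ((DerivedCategory.singleFunctor A i).obj ((DerivedCategory.homologyFunctor A i).obj K))⟦i⟧ ≅ (DerivedCategory.singleFunctor A 0).obj ((DerivedCategory.homologyFunctor A i).obj K) := (S.shiftIso i 0 i (by lia)).app _
  let e₂ : (((DerivedCategory.singleFunctor A c).obj ((DerivedCategory.homologyFunctor A c).obj K))⟦(1 : ℤ)⟧)⟦i⟧ ≅ ((DerivedCategory.singleFunctor A 0).obj ((DerivedCategory.homologyFunctor A c).obj K))⟦(p : ℤ)⟧ :=
    ((shiftFunctorAdd (DerivedCategory A) 1 i).app _).symm ≪≫ (S.shiftIso (1 + i) (c - 1 - i) c (by lia)).app _ ≪≫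
      ((S.shiftIso (p : ℤ) (c - 1 - i) 0 (by lia)).app _).symm
  have h := hExt i c p hci (by omega) (e₁.inv ≫ (shiftFunctor (DerivedCategory A) i).map f ≫ e₂.hom)
  apply (shiftFunctor (DerivedCategory A) i).map_injective
  rw [← cancel_epi e₁.inv, ← cancel_mono e₂.hom, Category.assoc, h]
  simp

include hExt in
lemma hom_eq_zero : ∀ (k : ℕ) (i c : ℤ) (M : DerivedCategory A), c < i → M.IsLE c → M.IsGE (c + 1 - k) →
    (∀ j, IsZero ((DerivedCategory.homologyFunctor A j).obj M) ∨ Nonempty ((DerivedCategory.homologyFunctor A j).obj M ≅ (DerivedCategory.homologyFunctor A j).obj K)) →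
    ∀ f : (DerivedCategory.singleFunctor A i).obj ((DerivedCategory.homologyFunctor A i).obj K) ⟶ M⟦(1 : ℤ)⟧, f = 0 := by
  intro k
  induction k with
  | zero =>
    intro i c M _ hle hge _ f
    exact ((shiftFunctor (DerivedCategory A) (1 : ℤ)).map_isZero
      ((DerivedCategory.TStructure.t (C := A)).isZero M c (c + 1 - ((0 : ℕ) : ℤ)) (by simp))).eq_of_tgt _ _
  | succ k ih =>
    intro i c M hci hle hge hH f
    haveI := hle
    haveI := hge
    let T := ((DerivedCategory.TStructure.t (C := A)).triangleLTGE c).obj M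
    have hT : T ∈ distTriang _ := (DerivedCategory.TStructure.t (C := A)).triangleLTGE_distinguished c M
    haveI h3ge : T.obj₃.IsGE c := isGE_truncGE M c
    haveI h1le : T.obj₁.IsLE (c - 1) := isLE_truncLT M c
    haveI h3le : T.obj₃.IsLE c := (DerivedCategory.isLE_iff _ c).2 fun j hj => by
      haveI := isIso_HD_π M c j (by lia)
      exact (DerivedCategory.isZero_of_isLE M c j hj).of_iso (asIso ((DerivedCategory.homologyFunctor A j).map (((DerivedCategory.TStructure.t (C := A)).truncGEπ c).app M))).symm
    -- the top piece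
    have hB : ∀ g : (DerivedCategory.singleFunctor A i).obj ((DerivedCategory.homologyFunctor A i).obj K) ⟶ T.obj₃⟦(1 : ℤ)⟧, g = 0 := by
      intro g
      haveI := isIso_HD_π M c c le_rfl
      obtain ⟨e⟩ := nonempty_iso_single T.obj₃ c
      let e' : T.obj₃ ≅ (DerivedCategory.singleFunctor A c).obj ((DerivedCategory.homologyFunctor A c).obj M) :=
        e ≪≫ (DerivedCategory.singleFunctor A c).mapIso (asIso ((DerivedCategory.homologyFunctor A c).map (((DerivedCategory.TStructure.t (C := A)).truncGEπ c).app M))).symm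
      rcases hH c with hz | ⟨⟨eK⟩⟩
      · exact (((shiftFunctor (DerivedCategory A) (1 : ℤ)).map_isZero ((DerivedCategory.singleFunctor A c).map_isZero hz)).of_iso
          ((shiftFunctor (DerivedCategory A) (1 : ℤ)).mapIso e')).eq_of_tgt _ _
      · let e'' := (shiftFunctor (DerivedCategory A) (1 : ℤ)).mapIso (e' ≪≫ (DerivedCategory.singleFunctor A c).mapIso eK)
        rw [← cancel_mono e''.hom, single_hom_eq_zero K hExt i c hci (g ≫ e''.hom), zero_comp]
    obtain ⟨g, hg⟩ := Triangle.coyoneda_exact₃ _ (rot_of_distTriang _ (rot_of_distTriang _ hT)) f (hB _)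
    have h0 : g = 0 := by
      refine ih i (c - 1) T.obj₁ (by lia) h1le ((DerivedCategory.isGE_iff _ _).2 fun j hj => ?_) (fun j => ?_) g
      · rcases lt_or_ge j c with h | h
        · haveI := isIso_HD_ι M c j h
          exact (DerivedCategory.isZero_of_isGE M (c + 1 - ((k + 1 : ℕ) : ℤ)) j (by push_cast at hj ⊢; lia)).of_iso
            (asIso ((DerivedCategory.homologyFunctor A j).map (((DerivedCategory.TStructure.t (C := A)).truncLTι c).app M)))
        · exact DerivedCategory.isZero_of_isLE T.obj₁ (c - 1) j (by lia)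
      · rcases lt_or_ge j c with h | h
        · haveI := isIso_HD_ι M c j h
          let e := asIso ((DerivedCategory.homologyFunctor A j).map (((DerivedCategory.TStructure.t (C := A)).truncLTι c).app M))
          exact (hH j).imp (fun hz => hz.of_iso e) (fun ⟨eK⟩ => ⟨e ≪≫ eK⟩)
        · exact Or.inl (DerivedCategory.isZero_of_isLE T.obj₁ (c - 1) j (by lia))
    rw [hg, h0, zero_comp]

include hExt in
lemma exists_section (a : ℤ) [K.IsGE a] (i : ℤ) :
    ∃ s : (DerivedCategory.singleFunctor A i).obj ((DerivedCategory.homologyFunctor A i).obj K) ⟶ K, IsIso ((DerivedCategory.homologyFunctor A i).map s) := by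
  let L := ((DerivedCategory.TStructure.t (C := A)).truncLT (i + 1)).obj K
  haveI hL : L.IsLE i := by
    have := isLE_truncLT K (i + 1)
    rwa [show i + 1 - 1 = i by ring] at this
  let T := ((DerivedCategory.TStructure.t (C := A)).triangleLTGE i).obj L
  have hT : T ∈ distTriang _ := (DerivedCategory.TStructure.t (C := A)).triangleLTGE_distinguished i L
  haveI h3ge : T.obj₃.IsGE i := isGE_truncGE L i
  haveI h3le : T.obj₃.IsLE i := (DerivedCategory.isLE_iff _ i).2 fun j hj => by
    haveI := isIso_HD_π L i j (by lia)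
    exact (DerivedCategory.isZero_of_isLE L i j hj).of_iso (asIso ((DerivedCategory.homologyFunctor A j).map (((DerivedCategory.TStructure.t (C := A)).truncGEπ i).app L))).symm
  haveI h1le : T.obj₁.IsLE (i - 1) := isLE_truncLT L i
  haveI hπ := isIso_HD_π L i i le_rfl
  haveI hι := isIso_HD_ι K (i + 1) i (by lia)
  obtain ⟨e⟩ := nonempty_iso_single T.obj₃ i
  let e' : T.obj₃ ≅ (DerivedCategory.singleFunctor A i).obj ((DerivedCategory.homologyFunctor A i).obj K) :=
    e ≪≫ (DerivedCategory.singleFunctor A i).mapIso ((asIso ((DerivedCategory.homologyFunctor A i).map (((DerivedCategory.TStructure.t (C := A)).truncGEπ i).app L))).symm ≪≫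
      asIso ((DerivedCategory.homologyFunctor A i).map (((DerivedCategory.TStructure.t (C := A)).truncLTι (i + 1)).app K)))
  have hH : ∀ j, j < i → IsIso ((DerivedCategory.homologyFunctor A j).map (((DerivedCategory.TStructure.t (C := A)).truncLTι i).app L ≫ ((DerivedCategory.TStructure.t (C := A)).truncLTι (i + 1)).app K)) := fun j hj => by
    haveI := isIso_HD_ι L i j hj
    haveI := isIso_HD_ι K (i + 1) j (by lia)
    rw [Functor.map_comp]
    infer_instance
  have h1ge : T.obj₁.IsGE a := (DerivedCategory.isGE_iff _ _).2 fun j hj => by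
    rcases lt_or_ge j i with h | h
    · haveI := hH j h
      exact (DerivedCategory.isZero_of_isGE K a j hj).of_iso
        (asIso ((DerivedCategory.homologyFunctor A j).map (((DerivedCategory.TStructure.t (C := A)).truncLTι i).app L ≫ ((DerivedCategory.TStructure.t (C := A)).truncLTι (i + 1)).app K)))
    · exact DerivedCategory.isZero_of_isLE T.obj₁ (i - 1) j (by lia)
  have hδ : e'.inv ≫ T.mor₃ = 0 := by
    refine hom_eq_zero K hExt (i - a).toNat i (i - 1) T.obj₁ (by lia) h1le ?_ (fun j => ?_) _
    · exact (DerivedCategory.TStructure.t (C := A)).isGE_of_ge T.obj₁ _ a (by omega)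
    · rcases lt_or_ge j i with h | h
      · haveI := hH j h
        exact Or.inr ⟨asIso ((DerivedCategory.homologyFunctor A j).map (((DerivedCategory.TStructure.t (C := A)).truncLTι i).app L ≫ ((DerivedCategory.TStructure.t (C := A)).truncLTι (i + 1)).app K))⟩
      · exact Or.inl (DerivedCategory.isZero_of_isLE T.obj₁ (i - 1) j (by lia))
  obtain ⟨σ, hσ⟩ := Triangle.coyoneda_exact₃ _ hT e'.inv hδ
  refine ⟨σ ≫ ((DerivedCategory.TStructure.t (C := A)).truncLTι (i + 1)).app K, ?_⟩
  haveI : IsIso ((DerivedCategory.homologyFunctor A i).map σ ≫ (DerivedCategory.homologyFunctor A i).map (((DerivedCategory.TStructure.t (C := A)).truncGEπ i).app L)) := by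
    rw [← Functor.map_comp]
    change IsIso ((DerivedCategory.homologyFunctor A i).map (σ ≫ T.mor₂))
    rw [← hσ]
    infer_instance
  haveI : IsIso ((DerivedCategory.homologyFunctor A i).map σ) := IsIso.of_isIso_comp_right _ ((DerivedCategory.homologyFunctor A i).map (((DerivedCategory.TStructure.t (C := A)).truncGEπ i).app L))
  rw [Functor.map_comp]
  infer_instance

include hExt in
/-- **splitting** -/
theorem nonempty_iso_biproduct (a b : ℤ) [K.IsGE a] [K.IsLE b]
    [HasBiproduct (fun i : Finset.Icc a b => (DerivedCategory.singleFunctor A (i : ℤ)).obj ((DerivedCategory.homologyFunctor A (i : ℤ)).obj K))] :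
    Nonempty (K ≅ ⨁ (fun i : Finset.Icc a b => (DerivedCategory.singleFunctor A (i : ℤ)).obj ((DerivedCategory.homologyFunctor A (i : ℤ)).obj K))) := by
  classical
  choose s hs using exists_section K hExt a
  let F := fun i : Finset.Icc a b => (DerivedCategory.singleFunctor A (i : ℤ)).obj ((DerivedCategory.homologyFunctor A (i : ℤ)).obj K)
  let φ : ⨁ F ⟶ K := biproduct.desc fun i => s i
  have hzero : ∀ (l : Finset.Icc a b) (j : ℤ), (l : ℤ) ≠ j → IsZero ((DerivedCategory.homologyFunctor A j).obj (F l)) := fun l j h => by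
    rcases lt_or_gt_of_ne h with h | h
    · exact DerivedCategory.isZero_of_isLE (F l) (l : ℤ) j h
    · exact DerivedCategory.isZero_of_isGE (F l) (l : ℤ) j h
  haveI : IsIso φ := by
    refine (DerivedCategory.isIso_iff _ _).2 fun j => ?_
    have htot : 𝟙 ((DerivedCategory.homologyFunctor A j).obj (⨁ F)) = ∑ l, (DerivedCategory.homologyFunctor A j).map (biproduct.π F l) ≫ (DerivedCategory.homologyFunctor A j).map (biproduct.ι F l) := by
      rw [← (DerivedCategory.homologyFunctor A j).map_id, ← biproduct.total, Functor.map_sum]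
      simp only [Functor.map_comp]
    by_cases hj : j ∈ Finset.Icc a b
    · have hsum : 𝟙 ((DerivedCategory.homologyFunctor A j).obj (⨁ F)) =
          (DerivedCategory.homologyFunctor A j).map (biproduct.π F ⟨j, hj⟩) ≫ (DerivedCategory.homologyFunctor A j).map (biproduct.ι F ⟨j, hj⟩) := by
        rw [htot, Finset.sum_eq_single_of_mem ⟨j, hj⟩ (Finset.mem_univ _) fun l _ hl => ?_]
        rw [(hzero l j fun h => hl (Subtype.ext h)).eq_of_tgt ((DerivedCategory.homologyFunctor A j).map (biproduct.π F l)) 0, zero_comp]
      have hιφ : (DerivedCategory.homologyFunctor A j).map (biproduct.ι F ⟨j, hj⟩) ≫ (DerivedCategory.homologyFunctor A j).map φ = (DerivedCategory.homologyFunctor A j).map (s j) := by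
        rw [← Functor.map_comp, biproduct.ι_desc]
      haveI := hs j
      refine ⟨inv ((DerivedCategory.homologyFunctor A j).map (s j)) ≫ (DerivedCategory.homologyFunctor A j).map (biproduct.ι F ⟨j, hj⟩), ?_, ?_⟩
      · rw [← Category.id_comp ((DerivedCategory.homologyFunctor A j).map φ), hsum]
        simp only [Category.assoc]
        refine congrArg ((DerivedCategory.homologyFunctor A j).map (biproduct.π F ⟨j, hj⟩) ≫ ·) ?_
        rw [reassoc_of% hιφ, IsIso.hom_inv_id_assoc]
      · rw [Category.assoc, hιφ, IsIso.inv_hom_id]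
    · have h1 : IsZero ((DerivedCategory.homologyFunctor A j).obj (⨁ F)) := by
        rw [IsZero.iff_id_eq_zero, htot]
        refine Finset.sum_eq_zero fun l _ => ?_
        rw [(hzero l j fun h => hj (h ▸ l.2)).eq_of_tgt ((DerivedCategory.homologyFunctor A j).map (biproduct.π F l)) 0, zero_comp]
      have h2 : IsZero ((DerivedCategory.homologyFunctor A j).obj K) := by
        rw [Finset.mem_Icc, not_and_or, not_le, not_le] at hj
        rcases hj with hj | hj
        · exact DerivedCategory.isZero_of_isGE K a j hj
        · exact DerivedCategory.isZero_of_isLE K b j hj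
      exact ⟨0, h1.eq_of_src _ _, h2.eq_of_src _ _⟩
  exact ⟨(asIso φ).symm⟩

end Groth.Agent.DerSplit
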